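import Cfsg.Agent.H91.Th.DC.Cert

/-!
Lists of deductions can be checked in pieces.
-/

set_option autoImplicit false

namespace H91.Th.DC

theorem Cert.dedAll_append {D : Cert} : ∀ {a b : List Ded} {K K' K'' : Known},
    D.dedAll K a = some K' → D.dedAll K' b = some K'' → D.dedAll K (a ++ b) = some K'' := by
  intro a
  induction a with
  | nil => intro b K K' K'' h1 h2; simp only [Cert.dedAll, Option.some.injEq] at h1; subst h1; exact h2
  | cons d ds ih =>
    intro b K K' K'' h1 h2
    rw [Cert.dedAll] at h1
    rw [List.cons_append, Cert.dedAll]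
    cases hd : D.dedOne K d with
    | none => simp [hd] at h1
    | some K1 => simp only [hd] at h1 ⊢; exact ih h1 h2

end H91.Th.DC
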